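import Groth.Agent.Lib.SAQuot15.Core
import Groth.Agent.Lib.AffLine15.Main
import Groth.Agent.Lib.AffPart25.Descent
import Groth.Agent.Lib.CharTorus15.Basic
import Groth.Agent.Lib.Semiab15.Torus
import Groth.Agent.Lib.BorelFix21.BaseChange
import Groth.Agent.Lib.TorPts21.BaseChangeTorus
import Groth.Agent.S14585
import Groth.Agent.S14592

/-!
# The smallest normal subgroup with semi-abelian quotient
-/

set_option autoImplicit false
set_option linter.style.haveILetI false
set_option backward.isDefEq.respectTransparency false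
set_option backward.isDefEq.respectTransparency.types false
set_option maxSynthPendingDepth 3
set_option synthInstance.maxHeartbeats 400000
universe u

open CategoryTheory CategoryTheory.Limits MonoidalCategory CartesianMonoidalCategory MonObj AlgebraicGeometry

noncomputable section

namespace Groth.Agent.SAQuot15

variable {k : Type u} [Field k]

/-- Semi-abelian varieties, as extensions. -/
def IsSAExt (Q : Over (Spec (CommRingCat.of k))) [GrpObj Q] : Prop :=
  ∃ (T : Over (Spec (CommRingCat.of k))) (_ : GrpObj T) (t : T ⟶ Q) (A : Over (Spec (CommRingCat.of k))) (_ : GrpObj A) (p : Q ⟶ A),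
    IsMonHom t ∧ IsClosedImmersion t.left ∧ Red.IsTorus T ∧ IsMonHom p ∧ Surjective p.left ∧ Flat p.left ∧
    AlgGrp.IsKernel t p ∧ IsProper A.hom ∧ Smooth A.hom ∧ ConnectedSpace ↥A.left

/-- After extending to an algebraically closed field, maps from the affine line are constant. -/
theorem const_bc {K : Type u} [Field K] [IsAlgClosed K] (φ : Spec (CommRingCat.of K) ⟶ Spec (CommRingCat.of k))
    {Q : Over (Spec (CommRingCat.of k))} [GrpObj Q] (hQ : IsSAExt Q)
    (f : Red.Ga (Spec (CommRingCat.of K)) ⟶ Red.bc φ Q) :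
    f = toUnit _ ≫ η[Red.Ga (Spec (CommRingCat.of K))] ≫ f := by
  obtain ⟨T, _, t, A, _, p, ht, htc, hT, hp, hps, hpf, hker, hAp, hAs, hAc⟩ := hQ
  haveI := ht; haveI := hp; haveI := hAp; haveI := hAs; haveI := hAc
  haveI : Smooth (Red.bc φ A).hom := BorelFix21.smooth_bc φ A
  haveI : IsProper (Red.bc φ A).hom :=
    MorphismProperty.of_isPullback (P := @IsProper) (BorelFix21.isPullback_bc φ A) hAp
  haveI : ConnectedSpace (Red.bc φ A).left := BorelFix21.connectedSpace_bc φ A
  exact AffLine15.const_to_semiabelian ((Over.pullback φ).map t) (TorPts21.isTorus_bc φ hT) ((Over.pullback φ).map p)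
    (AffPart25.isKernel_bc t p hker φ) f

/-- The quotient by the core of the intersection of two kernels is semi-abelian. -/
theorem exists_inf [PerfectField k] {G Q₁ Q₂ : Over (Spec (CommRingCat.of k))} [GrpObj G] [Smooth G.hom]
    [QuasiCompact G.hom] [ConnectedSpace G.left] [GrpObj Q₁] [GrpObj Q₂]
    (h₁ : IsSAExt Q₁) (h₂ : IsSAExt Q₂) (q₁ : G ⟶ Q₁) [IsMonHom q₁] (q₂ : G ⟶ Q₂) [IsMonHom q₂] :
    ∃ (C : Over (Spec (CommRingCat.of k))) (_ : GrpObj C) (c : C ⟶ G), IsMonHom c ∧ IsClosedImmersion c.left ∧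
      AlgGrp.IsNormalHom c ∧ Smooth C.hom ∧ ConnectedSpace C.left ∧
      (∃ (R : Over (Spec (CommRingCat.of k))) (_ : GrpObj R) (r : G ⟶ R), IsMonHom r ∧ Surjective r.left ∧ Flat r.left ∧
        AlgGrp.IsKernel c r ∧ IsSAExt R) ∧ c ≫ q₁ = 1 ∧ c ≫ q₂ = 1 := by
  let S := Spec (CommRingCat.of k)
  haveI : IsSeparated G.hom := AbRigid.isSeparated_of_grpObj G
  haveI : LocallyOfFiniteType G.hom := inferInstance
  let φ : G ⟶ Q₁ ⊗ Q₂ := CartesianMonoidalCategory.lift q₁ q₂
  let N := pullback φ η[Q₁ ⊗ Q₂]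
  let i : N ⟶ G := pullback.fst φ η[Q₁ ⊗ Q₂]
  have hk : AlgGrp.IsKernel i φ := by
    show IsPullback i (toUnit N) φ η[Q₁ ⊗ Q₂]
    rw [toUnit_unique (toUnit N) (pullback.snd φ η[Q₁ ⊗ Q₂])]
    exact IsPullback.of_hasPullback φ η[Q₁ ⊗ Q₂]
  obtain ⟨_, hi⟩ := GrpDim20.exists_grpObj_kernel φ i hk
  haveI := hi
  haveI : IsSeparated (Q₁ ⊗ Q₂).hom := AbRigid.isSeparated_of_grpObj _
  haveI : IsClosedImmersion η[Q₁ ⊗ Q₂].left :=
    isClosedImmersion_of_comp_eq_id (Q₁ ⊗ Q₂).hom _ (Over.w η[Q₁ ⊗ Q₂])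
  haveI : IsClosedImmersion i.left :=
    MorphismProperty.of_isPullback (hk.map (Over.forget _)).flip ‹IsClosedImmersion η[Q₁ ⊗ Q₂].left›
  haveI : Mono i := Over.mono_of_mono_left i
  have hi1 : i ≫ φ = 1 := hk.w.trans Hom.one_def.symm
  have hN : AlgGrp.IsNormalHom i := fun T g n => by
    refine ⟨hk.lift (g * (n ≫ i) * g⁻¹) (toUnit T) ?_, (hk.lift_fst _ _ _).symm⟩
    rw [MonObj.mul_comp, MonObj.mul_comp, GrpObj.inv_comp, Category.assoc, hi1, MonObj.comp_one, _root_.mul_one,
      mul_inv_cancel, Hom.one_def]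
  obtain ⟨C, _, c, f, hcm, hcc, hCs, hCn, hcn, hf, hfo⟩ := exists_core i hN
  haveI := hcm; haveI := hcc; haveI := hCs; haveI := hCn
  have hc1 : c ≫ φ = 1 := by rw [← hf, Category.assoc, hi1, MonObj.comp_one]
  obtain ⟨R, _, r, hr, hrf, hrs, hrc, hrp, hkr, hRl, hRq⟩ := AffPart25.exists_quotient_any c hcn
  haveI := hr; haveI := hrf; haveI := hrs; haveI := hrc; haveI := hrp; haveI := hRl; haveI := hRq
  haveI : IsReduced G.left := OrbitTop19.isReduced_of_smooth G.hom
  haveI : IsReduced R.left := H12.isReduced_of_flat_surjective r.left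
  haveI : Smooth R.hom := GrpSmooth19.smooth_of_isReduced R
  haveI : ConnectedSpace R.left := r.left.surjective.connectedSpace r.left.continuous
  obtain ⟨d, hd, hdm⟩ := AffPart25.exists_desc_hom c r hkr φ hc1
  haveI := hdm
  -- the kernel of `d` is finite
  let E := pullback d η[Q₁ ⊗ Q₂]
  let e : E ⟶ R := pullback.fst d η[Q₁ ⊗ Q₂]
  have hke : AlgGrp.IsKernel e d := by
    show IsPullback e (toUnit E) d η[Q₁ ⊗ Q₂]
    rw [toUnit_unique (toUnit E) (pullback.snd d η[Q₁ ⊗ Q₂])]
    exact IsPullback.of_hasPullback d η[Q₁ ⊗ Q₂]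
  obtain ⟨_, hem⟩ := GrpDim20.exists_grpObj_kernel d e hke
  haveI := hem
  haveI : IsClosedImmersion e.left :=
    MorphismProperty.of_isPullback (hke.map (Over.forget _)).flip ‹IsClosedImmersion η[Q₁ ⊗ Q₂].left›
  haveI : Mono e := Over.mono_of_mono_left e
  haveI : LocallyOfFiniteType E.hom := by rw [← Over.w e]; infer_instance
  haveI : QuasiCompact E.hom := by rw [← Over.w e]; infer_instance
  let ρ : N ⟶ E := hke.lift (i ≫ r) (toUnit N) (by rw [Category.assoc, hd]; exact hk.w)
  have hρ : ρ ≫ e = i ≫ r := hke.lift_fst _ _ _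
  have hsq : IsPullback i ρ r e := by
    refine IsPullback.of_bot ?_ hρ.symm hke
    rw [toUnit_unique (ρ ≫ toUnit E) (toUnit N), hd]
    exact hk
  haveI : Flat ρ.left := MorphismProperty.of_isPullback (hsq.map (Over.forget _)) hrf
  haveI : LocallyOfFinitePresentation ρ.left := MorphismProperty.of_isPullback (hsq.map (Over.forget _)) hrp
  have hopen : IsOpen ({η[E].left (IsLocalRing.closedPoint k)} : Set E.left) := by
    have h1 : f ≫ ρ = 1 := by
      rw [← cancel_mono e, Category.assoc, hρ, ← Category.assoc, hf, hkr.w, MonObj.one_comp, Hom.one_def]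
    have h2 : Set.range (f ≫ ρ).left = {η[E].left (IsLocalRing.closedPoint k)} := by
      refine Set.eq_singleton_iff_nonempty_unique_mem.2
        ⟨⟨_, η[C].left (IsLocalRing.closedPoint k), rfl⟩, ?_⟩
      rintro _ ⟨z, rfl⟩
      rw [h1, Hom.one_def, Over.comp_left, Scheme.Hom.comp_apply]
      exact congrArg _ (Subsingleton.elim (α := PrimeSpectrum k) _ _)
    rw [← h2, Over.comp_left, Scheme.Hom.comp_base, TopCat.coe_comp, Set.range_comp]
    exact ρ.left.isOpenMap _ hfo
  haveI := AffPart25.locallyQuasiFinite_of_isOpen_one E hopen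
  -- descend from the algebraic closure
  let π := Spec.map (CommRingCat.ofHom (algebraMap k (AlgebraicClosure k)))
  let P := Over.pullback π
  let K := AlgebraicClosure k
  haveI : Smooth (Red.bc π R).hom := BorelFix21.smooth_bc π R
  haveI : QuasiCompact (Red.bc π R).hom :=
    MorphismProperty.of_isPullback (P := @QuasiCompact) (BorelFix21.isPullback_bc π R) hRq
  haveI : ConnectedSpace (Red.bc π R).left := BorelFix21.connectedSpace_bc π R
  have hSA : IsSAExt (Red.bc π R) := by
    refine (S14585.result K (Red.bc π R)).2 fun f => ?_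
    let ι' := AffLine15.lineIso (Spec (CommRingCat.of K))
    let U := Red.Ga (Spec (CommRingCat.of K))
    let g : U ⟶ Red.bc π R := ι'.inv ≫ f
    let b : U ⟶ Red.bc π R := toUnit U ≫ η[U] ≫ g
    have hq1 : (g * b⁻¹) ≫ P.map (d ≫ fst Q₁ Q₂) = 1 := by
      rw [MonObj.mul_comp, GrpObj.inv_comp, mul_inv_eq_one, Category.assoc, Category.assoc]
      exact const_bc π h₁ (g ≫ P.map (d ≫ fst Q₁ Q₂))
    have hq2 : (g * b⁻¹) ≫ P.map (d ≫ snd Q₁ Q₂) = 1 := by
      rw [MonObj.mul_comp, GrpObj.inv_comp, mul_inv_eq_one, Category.assoc, Category.assoc]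
      exact const_bc π h₂ (g ≫ P.map (d ≫ snd Q₁ Q₂))
    have hz : DiagGL.fl π R (g * b⁻¹) ≫ d = 1 := by
      refine CartesianMonoidalCategory.hom_ext _ _ ?_ ?_
      · rw [MonObj.one_comp, Category.assoc, ← DiagGL.fl_comp_map, hq1, MTRigid29.fl_one]
      · rw [MonObj.one_comp, Category.assoc, ← DiagGL.fl_comp_map, hq2, MTRigid29.fl_one]
    obtain ⟨w, hw, -⟩ := hke.exists_lift (DiagGL.fl π R (g * b⁻¹)) (toUnit _) (hz.trans Hom.one_def)
    obtain ⟨w', hw'⟩ := DiagGL.fl_surjective π E w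
    have hwe : w' ≫ P.map e = g * b⁻¹ := DiagGL.fl_injective π R (by
      rw [DiagGL.fl_comp_map, hw', hw])
    obtain ⟨hUa, hUs, hUc⟩ := AttrBorel21.smooth_affine_Ga K
    haveI := hUa; haveI := hUs; haveI := hUc
    have h0 : η[U] ≫ (g * b⁻¹) = 1 := by
      rw [MonObj.comp_mul, GrpObj.comp_inv, mul_inv_eq_one]
      show η[U] ≫ g = η[U] ≫ toUnit U ≫ η[U] ≫ g
      rw [← Category.assoc η[U] (toUnit U), toUnit_unique (η[U] ≫ toUnit U) (𝟙 _), Category.id_comp]
    haveI : LocallyQuasiFinite (Red.bc π E).hom :=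
      MorphismProperty.of_isPullback (P := @LocallyQuasiFinite) (BorelFix21.isPullback_bc π E) ‹_›
    haveI : QuasiCompact (Red.bc π E).hom :=
      MorphismProperty.of_isPullback (P := @QuasiCompact) (BorelFix21.isPullback_bc π E) ‹_›
    haveI : IsLocallyArtinian (Red.bc π E).left := .of_locallyQuasiFinite (Red.bc π E).hom
    haveI : DiscreteTopology (Red.bc π E).left := inferInstance
    haveI : IsSeparated (Red.bc π E).hom := AbRigid.isSeparated_of_grpObj _
    haveI : IsClosedImmersion η[Red.bc π E].left :=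
      isClosedImmersion_of_comp_eq_id (Red.bc π E).hom _ (Over.w η[Red.bc π E])
    haveI : Mono (P.map e) := inferInstance
    have h0' : η[U] ≫ w' = 1 := by
      rw [← cancel_mono (P.map e), Category.assoc, hwe, h0, MonObj.one_comp]
    haveI : IsReduced U.left := OrbitTop19.isReduced_of_smooth U.hom
    obtain ⟨l, hl⟩ := RedSepLib.exists_lift_of_range_subset w'.left η[Red.bc π E].left (by
      rintro _ ⟨z, rfl⟩
      refine ⟨IsLocalRing.closedPoint K, ?_⟩
      rw [PreconnectedSpace.constant inferInstance w'.left.continuous (x := z)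
        (y := η[U].left (IsLocalRing.closedPoint K)), ← Scheme.Hom.comp_apply, ← Over.comp_left, h0', Hom.one_def,
        toUnit_unique (toUnit (𝟙_ _)) (𝟙 _), Category.id_comp])
    have hw1 : w' = 1 := by
      rw [Hom.one_def]
      refine Over.OverMorphism.ext ?_
      rw [← hl, Over.comp_left]
      congr 1
      haveI : Mono (𝟙_ (Over (Spec (CommRingCat.of K)))).hom := inferInstanceAs (Mono (𝟙 (Spec (CommRingCat.of K))))
      rw [← cancel_mono (𝟙_ (Over (Spec (CommRingCat.of K)))).hom, Over.w (toUnit U), ← Over.w w', ← hl,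
        Category.assoc, Over.w η[Red.bc π E]]
    have hg : g = b := mul_inv_eq_one.1 (by rw [← hwe, hw1, MonObj.one_comp])
    refine ⟨η[U] ≫ g, ?_⟩
    rw [← cancel_epi ι'.inv, ← Category.assoc, comp_toUnit]
    exact hg
  haveI : LocallyOfFiniteType R.hom := inferInstance
  refine ⟨C, inferInstance, c, hcm, hcc, hcn, hCs, hCn,
    ⟨R, inferInstance, r, hr, hrs, hrf, hkr, S14592.result k R hSA⟩, ?_, ?_⟩
  · rw [← lift_fst q₁ q₂, ← Category.assoc, hc1, MonObj.one_comp]
  · rw [← lift_snd q₁ q₂, ← Category.assoc, hc1, MonObj.one_comp]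

/-- The smallest normal smooth connected subgroup with semi-abelian quotient. -/
theorem exists_smallest [PerfectField k] (G : Over (Spec (CommRingCat.of k))) [GrpObj G] [Smooth G.hom]
    [QuasiCompact G.hom] [ConnectedSpace G.left] :
    ∃ (H : Over (Spec (CommRingCat.of k))) (_ : GrpObj H) (h : H ⟶ G), IsMonHom h ∧ IsClosedImmersion h.left ∧
      AlgGrp.IsNormalHom h ∧ Smooth H.hom ∧ ConnectedSpace H.left ∧
      (∃ (Q : Over (Spec (CommRingCat.of k))) (_ : GrpObj Q) (q : G ⟶ Q), IsMonHom q ∧ Surjective q.left ∧ Flat q.left ∧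
        AlgGrp.IsKernel h q ∧ IsSAExt Q) ∧
      ∀ (Q' : Over (Spec (CommRingCat.of k))) [GrpObj Q'] (q' : G ⟶ Q') [IsMonHom q'], IsSAExt Q' → h ≫ q' = 1 := by
  haveI : IsLocallyNoetherian G.left := LocallyOfFiniteType.isLocallyNoetherian G.hom
  haveI : CompactSpace G.left := (quasiCompact_iff_compactSpace G.hom).1 inferInstance
  haveI : IsNoetherian G.left := { }
  let 𝒮 : Set (TopologicalSpace.Closeds G.left) := {Z | ∃ (H : Over (Spec (CommRingCat.of k))) (_ : GrpObj H) (h : H ⟶ G),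
    IsMonHom h ∧ IsClosedImmersion h.left ∧ AlgGrp.IsNormalHom h ∧ Smooth H.hom ∧ ConnectedSpace H.left ∧
    (∃ (Q : Over (Spec (CommRingCat.of k))) (_ : GrpObj Q) (q : G ⟶ Q), IsMonHom q ∧ Surjective q.left ∧ Flat q.left ∧
      AlgGrp.IsKernel h q ∧ IsSAExt Q) ∧ Set.range h.left = Z}
  have hne : 𝒮.Nonempty := by
    let U := 𝟙_ (Over (Spec (CommRingCat.of k)))
    haveI : IsProper U.hom := inferInstanceAs (IsProper (𝟙 (Spec (CommRingCat.of k))))
    haveI : Smooth U.hom := inferInstanceAs (Smooth (𝟙 (Spec (CommRingCat.of k))))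
    haveI : ConnectedSpace U.left := inferInstanceAs (ConnectedSpace (PrimeSpectrum k))
    haveI : Flat (toUnit G).left := inferInstanceAs (Flat G.hom)
    haveI : Surjective (toUnit G).left := ⟨fun s => ⟨η[G].left (IsLocalRing.closedPoint k), Subsingleton.elim (α := PrimeSpectrum k) _ _⟩⟩
    haveI : IsClosedImmersion (𝟙 G : G ⟶ G).left := by rw [Over.id_left]; infer_instance
    haveI : IsClosedImmersion (𝟙 U : U ⟶ U).left := by rw [Over.id_left]; infer_instance
    haveI : IsIso η[U] := by rw [toUnit_unique η[U] (𝟙 _)]; infer_instance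
    haveI : Surjective (𝟙 U : U ⟶ U).left := by rw [Over.id_left]; infer_instance
    haveI : Flat (𝟙 U : U ⟶ U).left := by rw [Over.id_left]; infer_instance
    exact ⟨⟨Set.range (𝟙 G : G ⟶ G).left, (𝟙 G : G ⟶ G).left.isClosedEmbedding.isClosed_range⟩, G, inferInstance, 𝟙 G,
      inferInstance, inferInstance, fun T g n => ⟨g * n * g⁻¹, by simp⟩, inferInstance, inferInstance,
      ⟨U, inferInstance, toUnit G, inferInstance, inferInstance, inferInstance, IsPullback.of_horiz_isIso ⟨toUnit_unique _ _⟩,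
        U, inferInstance, 𝟙 U, U, inferInstance, 𝟙 U, inferInstance, inferInstance, Semiab15.isTorus_unit, inferInstance,
        inferInstance, inferInstance, haveI : IsIso (toUnit U) := (toUnit_unique (toUnit U) (𝟙 _)) ▸ inferInstance; IsPullback.of_vert_isIso ⟨by simp [toUnit_unique η[U] (𝟙 _), toUnit_unique (toUnit U) (𝟙 _)]⟩,
        inferInstance, inferInstance, inferInstance⟩, rfl⟩
  obtain ⟨Z, ⟨H, _, h, hm, hc, hn, hs, hcn, ⟨Q, _, q, hq, hqs, hqf, hker, hQ⟩, hZ⟩, hmin⟩ :=
    (wellFounded_lt (α := TopologicalSpace.Closeds G.left)).has_min 𝒮 hne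
  haveI := hm; haveI := hc; haveI := hq; haveI := hs
  refine ⟨H, inferInstance, h, hm, hc, hn, hs, hcn, ⟨Q, inferInstance, q, hq, hqs, hqf, hker, hQ⟩, fun Q' _ q' _ hQ' => ?_⟩
  obtain ⟨C, _, c, hcm, hcc, hcn', hCs, hCn, hR, hc1, hc2⟩ := exists_inf hQ hQ' q q'
  haveI := hcc; haveI := hcm
  obtain ⟨f, hf, -⟩ := hker.exists_lift c (toUnit C) (hc1.trans Hom.one_def)
  have hsub : Set.range c.left ⊆ Set.range h.left := by
    rw [← hf, Over.comp_left]; exact Set.range_comp_subset_range f.left h.left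
  have heq : Set.range h.left ⊆ Set.range c.left := by
    by_contra hne'
    refine hmin ⟨Set.range c.left, c.left.isClosedEmbedding.isClosed_range⟩
      ⟨C, _, c, hcm, hcc, hcn', hCs, hCn, hR, rfl⟩ (lt_of_le_of_ne (fun x hx => ?_) fun e => ?_)
    · show x ∈ (Z : Set G.left)
      rw [← hZ]; exact hsub hx
    · exact hne' (fun x hx => by
        have := congrArg (fun W : TopologicalSpace.Closeds G.left => x ∈ W) e
        exact this.mpr (show x ∈ (Z : Set G.left) by rw [← hZ]; exact hx))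
  haveI : IsReduced H.left := OrbitTop19.isReduced_of_smooth H.hom
  obtain ⟨l, hl⟩ := RedSepLib.exists_lift_of_range_subset h.left c.left heq
  have hl' : (Over.homMk l (by rw [← Over.w c, reassoc_of% hl, Over.w h]) : H ⟶ C) ≫ c = h := Over.OverMorphism.ext hl
  rw [← hl', Category.assoc, hc2, MonObj.comp_one]

end Groth.Agent.SAQuot15
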